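import Cfsg.Prelude.Def_RootSubgroups
import Cfsg.Agent.Lib.Inv.BaerSuzuki

/-!
Root involutions: the elementary lemmas on lines (triples `p, q, pq` of commuting members) and the
theorem that two members with the same odd partners commute with the same members.
-/

set_option autoImplicit false

namespace Cfsg.Agent.RootInv

open Cfsg
open scoped commutatorElement
open Pointwise

variable {G : Type*} [Group G] {D : Set G}

/-- The members of `D` whose product with `a` has an order not dividing four. -/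
def As (D : Set G) (a : G) : Set G := {y | y ∈ D ∧ (a * y) ^ 4 ≠ 1}

theorem pow4_symm {a b : G} (h : (a * b) ^ 4 = 1) : (b * a) ^ 4 = 1 := by
  have e : (b * a) ^ 4 = a⁻¹ * (a * b) ^ 4 * a := by
    simp only [pow_succ, pow_zero, one_mul]; group
  rw [e, h]
  group

theorem pow4_symm_ne {a b : G} (h : (a * b) ^ 4 ≠ 1) : (b * a) ^ 4 ≠ 1 := fun e => h (pow4_symm e)

theorem four_pow (x : G) : x ^ 4 = (x * x) * (x * x) := by rw [← pow_two (x * x), ← pow_two x, ← pow_mul]

/-- Two involutions with product of order dividing four. -/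
theorem four_facts {a b : G} (ha : a * a = 1) (hb : b * b = 1) (h : (a * b) ^ 4 = 1) :
    (a * b) ^ 2 * (a * b) ^ 2 = 1 ∧ a * (a * b) ^ 2 = (a * b) ^ 2 * a ∧
      b * (a * b) ^ 2 = (a * b) ^ 2 * b ∧ a * b * a = b * (a * b) ^ 2 ∧
      b * a * b = a * (a * b) ^ 2 ∧ (b * a) ^ 2 = (a * b) ^ 2 := by
  have ha' : a⁻¹ = a := inv_eq_of_mul_eq_one_right ha
  have hb' : b⁻¹ = b := inv_eq_of_mul_eq_one_right hb
  have h1 : (a * b) ^ 2 * (a * b) ^ 2 = 1 := by rw [← pow_add]; exact h
  have h2 : (b * a) ^ 2 = (a * b) ^ 2 := by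
    have e : (b * a) = (a * b)⁻¹ := by rw [mul_inv_rev, ha', hb']
    rw [e, inv_pow]
    exact inv_eq_of_mul_eq_one_right h1
  have e2 : (a * b) ^ 2 = a * b * a * b := by rw [pow_two]; group
  have e3 : (b * a) ^ 2 = b * a * b * a := by rw [pow_two]; group
  have h3 : b * a * b = a * (a * b) ^ 2 := by
    rw [e2]
    calc b * a * b = (a * a) * (b * a * b) := by rw [ha, one_mul]
      _ = a * (a * b * a * b) := by group
  have h4 : a * b * a = b * (a * b) ^ 2 := by
    rw [← h2, e3]
    calc a * b * a = (b * b) * (a * b * a) := by rw [hb, one_mul]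
      _ = b * (b * a * b * a) := by group
  refine ⟨h1, ?_, ?_, h4, h3, h2⟩
  · rw [← h3]
    conv_rhs => rw [← h2, e3, mul_assoc, ha, mul_one]
  · rw [← h4]
    conv_rhs => rw [e2, mul_assoc, hb, mul_one]

section
variable (hD : IsRootInvolutionSet D)
include hD

theorem sq_one {a : G} (ha : a ∈ D) : a * a = 1 := by
  rw [← pow_two, ← hD.orderOf_eq a ha, pow_orderOf_eq_one]

theorem ne_one {a : G} (ha : a ∈ D) : a ≠ 1 := by
  intro e
  have := hD.orderOf_eq a ha
  rw [e, orderOf_one] at this
  exact absurd this (by norm_num)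

theorem inv_self {a : G} (ha : a ∈ D) : a⁻¹ = a := inv_eq_of_mul_eq_one_right (sq_one hD ha)

theorem conj_self {a b : G} (ha : a ∈ D) (hb : b ∈ D) : a * b * a ∈ D := by
  have := hD.conj_mem b hb a
  rwa [inv_self hD ha] at this

theorem comm_four {a b : G} (ha : a ∈ D) (hb : b ∈ D) (h : a * b = b * a) : (a * b) ^ 4 = 1 := by
  rw [Commute.mul_pow h, four_pow a, four_pow b,
    sq_one hD ha, sq_one hD hb]
  simp

/-- The alternative to `(ab)^4 = 1`. -/
theorem odd_of {a b : G} (ha : a ∈ D) (hb : b ∈ D) (h : (a * b) ^ 4 ≠ 1) :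
    Odd (orderOf (a * b)) ∧ a ≠ b := by
  refine ⟨?_, fun e => h (by rw [e, sq_one hD hb, one_pow])⟩
  rcases hD.pair a ha b hb with h1 | h1 | ⟨h1, -⟩
  · exact absurd (comm_four hD ha hb h1) h
  · exact h1
  · exact absurd (by rw [← h1]; exact pow_orderOf_eq_one _) h

/-- When `(ab)^4 = 1`, the square of `ab` is trivial or a member. -/
theorem sq_mem {a b : G} (ha : a ∈ D) (hb : b ∈ D) (h : (a * b) ^ 4 = 1) :
    (a * b) ^ 2 = 1 ∨ (a * b) ^ 2 ∈ D := by
  rcases hD.pair a ha b hb with h1 | h1 | ⟨-, h1⟩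
  · left
    rw [Commute.mul_pow h1, pow_two, pow_two, sq_one hD ha, sq_one hD hb, one_mul]
  · left
    have h2 : orderOf (a * b) ∣ 4 := orderOf_dvd_of_pow_eq_one h
    obtain ⟨k, hk, e⟩ := (Nat.dvd_prime_pow Nat.prime_two).1 (show orderOf (a * b) ∣ 2 ^ 2 by simpa using h2)
    rw [e] at h1
    have : k = 0 := by
      by_contra hk0
      exact absurd h1 (by rw [Nat.not_odd_iff_even]; exact Nat.even_pow.2 ⟨even_two, hk0⟩)
    rw [this, pow_zero, orderOf_eq_one_iff] at e
    rw [e, one_pow]
  · exact Or.inr h1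

omit hD in
theorem comm_of_sq {a b : G} (ha : a * a = 1) (hb : b * b = 1) (h : (a * b) ^ 2 = 1) : a * b = b * a := by
  calc a * b = (a * b) * (a * b) * (b⁻¹ * a⁻¹) := by group
    _ = b * a := by
      rw [← pow_two, h, one_mul, inv_eq_of_mul_eq_one_right ha, inv_eq_of_mul_eq_one_right hb]

/-- An involution commuting with the two members of an odd pair cannot make a member with one of them. -/
theorem commuting_odd {p q y : G} (hp : p * p = 1) (hq : q ∈ D) (hy : y ∈ D) (hpq : p * q ∈ D)
    (c1 : p * q = q * p) (c2 : p * y = y * p) (h : (q * y) ^ 4 ≠ 1) : p = 1 := by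
  have hc : Commute p (q * y) := Commute.mul_right c1 c2
  have hp4 : p ^ 4 = 1 := by rw [four_pow, hp, one_mul]
  have h' : ((p * q) * y) ^ 4 ≠ 1 := by
    rw [mul_assoc, hc.mul_pow, hp4, one_mul]
    exact h
  obtain ⟨n, hn⟩ := (odd_of hD hpq hy h').1
  obtain ⟨m, hm⟩ := (odd_of hD hq hy h).1
  have e : p ^ (orderOf (p * q * y) * orderOf (q * y)) = 1 := by
    have e1 : (p * (q * y)) ^ (orderOf (p * q * y) * orderOf (q * y)) = 1 := by
      rw [← mul_assoc p q y, pow_mul, pow_orderOf_eq_one, one_pow]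
    rw [hc.mul_pow] at e1
    rwa [pow_mul' (q * y), pow_orderOf_eq_one, one_pow, mul_one] at e1
  rw [hn, hm, show (2 * n + 1) * (2 * m + 1) = 2 * (2 * n * m + n + m) + 1 by ring, pow_succ, pow_mul,
    pow_two, hp, one_pow, one_mul] at e
  exact e

/-- For a line `p, q, pq` an odd partner of `q` is one of `p` or of `pq`. -/
theorem line_odd {p q u : G} (hp : p ∈ D) (hq : q ∈ D) (hu : u ∈ D) (hpq : p * q ∈ D)
    (c : p * q = q * p) (h : (q * u) ^ 4 ≠ 1) : (p * u) ^ 4 ≠ 1 ∨ (p * q * u) ^ 4 ≠ 1 := by
  by_contra hcon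
  push Not at hcon
  obtain ⟨h1, h2⟩ := hcon
  obtain ⟨t2, tp, tu, tpup, -, -⟩ := four_facts (sq_one hD hp) (sq_one hD hu) h1
  set t := (p * u) ^ 2 with ht
  have e : (p * q * u) ^ 2 = (q * u) * t * (q * u) := by
    calc (p * q * u) ^ 2 = (q * p) * u * (p * q) * u := by rw [pow_two, ← c]; group
      _ = q * (p * u * p) * q * u := by group
      _ = (q * u) * t * (q * u) := by rw [tpup]; group
  have e2 : ((q * u) * t * (q * u)) * ((q * u) * t * (q * u)) = 1 := by
    rw [← e, ← pow_add]; exact h2
  obtain ⟨hodd, hne⟩ := odd_of hD hq hu h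
  obtain ⟨k, hk⟩ := hodd
  set ρ := q * u with hρ
  have ht' : t⁻¹ = t := inv_eq_of_mul_eq_one_right t2
  have e3 : t * ρ ^ 2 * t = (ρ ^ 2)⁻¹ := by
    calc t * ρ ^ 2 * t = ρ⁻¹ * (ρ * t * ρ * (ρ * t * ρ)) * ρ⁻¹ := by rw [pow_two ρ]; group
      _ = (ρ ^ 2)⁻¹ := by rw [e2]; group
  have e4 : t * ρ * t = ρ⁻¹ := by
    have hρk : (ρ ^ 2) ^ (k + 1) = ρ := by
      rw [← pow_mul, show 2 * (k + 1) = orderOf ρ + 1 by omega, pow_succ, pow_orderOf_eq_one, one_mul]
    calc t * ρ * t = MulAut.conj t ((ρ ^ 2) ^ (k + 1)) := by rw [hρk, MulAut.conj_apply, ht']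
      _ = (MulAut.conj t (ρ ^ 2)) ^ (k + 1) := map_pow _ _ _
      _ = ρ⁻¹ := by rw [MulAut.conj_apply, ht', e3, inv_pow, hρk]
  have e5 : (t * q) ^ 2 = (u * q) ^ 2 := by
    have e6 : t * q * t = u * q * u := by
      calc t * q * t = t * (q * u) * t * (t⁻¹ * u⁻¹ * t) := by group
        _ = ρ⁻¹ * (t⁻¹ * (u⁻¹ * t)) := by rw [← hρ, e4]; group
        _ = u * q * u := by
          rw [inv_self hD hu, tu, ← mul_assoc t⁻¹, inv_mul_cancel, one_mul, hρ, mul_inv_rev,
            inv_self hD hu, inv_self hD hq]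
    calc (t * q) ^ 2 = (t * q * t) * q := by rw [pow_two]; group
      _ = (u * q) ^ 2 := by rw [e6, pow_two]; group
  have e7 : (t * q) ^ 4 = 1 := by
    rcases sq_mem hD hp hu h1 with h3 | h3
    · rw [ht, h3, one_mul, four_pow q, sq_one hD hq, one_mul]
    · by_contra h4
      exact ne_one hD hp (commuting_odd hD (sq_one hD hp) hq h3 hpq c tp (pow4_symm_ne h4))
  apply h
  apply pow4_symm
  rw [show (u * q) ^ 4 = ((u * q) ^ 2) ^ 2 by group, ← e5, ← pow_mul]
  exact e7

omit hD in
theorem mem_As {a y : G} : y ∈ As D a ↔ y ∈ D ∧ (a * y) ^ 4 ≠ 1 := Iff.rfl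

theorem As_conj (g a : G) : As D (g * a * g⁻¹) = MulAut.conj g '' As D a := by
  have key : ∀ g a : G, ∀ y ∈ As D a, MulAut.conj g y ∈ As D (g * a * g⁻¹) := by
    rintro g a y ⟨hy, h⟩
    refine ⟨hD.conj_mem y hy g, fun e => h ?_⟩
    have e' : MulAut.conj g ((a * y) ^ 4) = 1 := by
      rw [map_pow, map_mul]; exact e
    exact (map_eq_one_iff _ (MulAut.conj g).injective).1 e'
  refine Set.Subset.antisymm (fun y hy => ?_) (by rintro _ ⟨y, hy, rfl⟩; exact key g a y hy)
  refine ⟨g⁻¹ * y * g, ?_, by simp only [MulAut.conj_apply]; group⟩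
  have := key g⁻¹ _ y hy
  simp only [MulAut.conj_apply, inv_inv] at this
  rwa [show g⁻¹ * (g * a * g⁻¹) * g = a by group] at this

theorem As_conj_comm {g a : G} (h : g * a = a * g) : MulAut.conj g '' As D a = As D a := by
  rw [← As_conj hD, h, mul_inv_cancel_right]

/-- In a connected set of root involutions any two members are conjugate. -/
theorem conjugate (hc : IsConnectedSet (OddAdj D) D) {a b : G} (ha : a ∈ D) (hb : b ∈ D) :
    ∃ g : G, b = g * a * g⁻¹ := by
  have h := hc a ha b hb
  clear hb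
  induction h with
  | refl => exact ⟨1, by group⟩
  | @tail c b _ hstep ih =>
    obtain ⟨g, hg⟩ := ih
    obtain ⟨hcD, hbD, -, k, hk⟩ := hstep
    refine ⟨(c * b) ^ k * g, ?_⟩
    set ρ := c * b with hρ
    have hcρ : c * ρ * c⁻¹ = ρ⁻¹ := by
      rw [hρ, mul_inv_rev, inv_self hD hcD, inv_self hD hbD, ← mul_assoc, sq_one hD hcD, one_mul]
    have e1 : c * ρ ^ k * c⁻¹ = (ρ ^ k)⁻¹ := by
      rw [← MulAut.conj_apply, map_pow, MulAut.conj_apply, hcρ, inv_pow]
    have e2 : ρ ^ k * ρ ^ k * ρ = 1 := by
      rw [← pow_add, ← pow_succ, show k + k + 1 = orderOf ρ by omega, pow_orderOf_eq_one]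
    calc b = c⁻¹ * ρ := by rw [hρ]; group
      _ = c * ρ := by rw [inv_self hD hcD]
      _ = ρ⁻¹ * c := by rw [← hcρ]; group
      _ = (ρ ^ k * ρ ^ k) * c := by rw [eq_inv_of_mul_eq_one_left e2]
      _ = ρ ^ k * c * (ρ ^ k)⁻¹ := by
          have e3 : c * (ρ ^ k)⁻¹ = ρ ^ k * c := by
            rw [← e1, inv_self hD hcD, ← mul_assoc, ← mul_assoc, sq_one hD hcD, one_mul]
          rw [mul_assoc _ c, e3, mul_assoc]
      _ = _ := by rw [hg]; group

variable [Finite G] (hc : IsConnectedSet (OddAdj D) D)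
include hc

/-- A line two of whose members have the same odd partners. -/
theorem line_same {e z : G} (he : e ∈ D) (hz : z ∈ D) (hez : e * z ∈ D) (c : e * z = z * e)
    (h : As D (e * z) = As D e) : As D z = As D e := by
  have hsub : As D z ⊆ As D e := by
    rintro u ⟨hu, hu4⟩
    rcases line_odd hD he hz hu hez c hu4 with h1 | h1
    · exact ⟨hu, h1⟩
    · exact h ▸ (⟨hu, h1⟩ : u ∈ As D (e * z))
  refine Set.eq_of_subset_of_ncard_le hsub ?_ (Set.toFinite _)
  obtain ⟨g, rfl⟩ := conjugate hD hc he hz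
  rw [As_conj hD, Set.ncard_image_of_injective _ (MulAut.conj g).injective]

/-- If `z` and `e` have the same odd partners, among them `y`, and `a` commutes with `y`, then `e`
commutes with the square of `za`. -/
theorem comm_step {e z a y : G} (he : e ∈ D) (hz : z ∈ D) (ha : a ∈ D) (hy : y ∈ D)
    (cez : e * z = z * e) (hA : As D z = As D e) (cay : a * y = y * a) (hzy : (z * y) ^ 4 ≠ 1)
    (hza : (z * a) ^ 4 = 1) : e * (z * a) ^ 2 = (z * a) ^ 2 * e := by
  rcases sq_mem hD hz ha hza with h1 | h1
  · rw [h1, mul_one, one_mul]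
  have hea : (e * a) ^ 4 = 1 := by
    by_contra h2
    exact ((hA.symm ▸ (⟨ha, h2⟩ : a ∈ As D e)) : a ∈ As D z).2 hza
  obtain ⟨a'2, ca'z, ca'a, hzaz, haza, -⟩ := four_facts (sq_one hD hz) (sq_one hD ha) hza
  obtain ⟨v2, cve, cva, heae, haea, -⟩ := four_facts (sq_one hD he) (sq_one hD ha) hea
  set a' := (z * a) ^ 2 with ha'
  set v := (e * a) ^ 2 with hv
  set e' := a * e * a with he'
  set z' := a * z * a with hz'
  have he'D : e' ∈ D := conj_self hD ha he
  have hz'D : z' ∈ D := conj_self hD ha hz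
  have cee' : e * e' = e' * e := by
    rw [haea, mul_assoc e v, ← cve]
  have czz' : z * z' = z' * z := by
    rw [haza, mul_assoc z a', ← ca'z]
  suffices h : e * z' = z' * e by
    calc e * a' = e * (z * z') := by rw [haza, ← mul_assoc z, sq_one hD hz, one_mul]
      _ = (z * z') * e := by rw [← mul_assoc, cez, mul_assoc z e, h, ← mul_assoc]
      _ = a' * e := by rw [haza, ← mul_assoc z, sq_one hD hz, one_mul]
  have hAe' : As D e' = MulAut.conj a '' As D e := by rw [he', ← As_conj hD, inv_self hD ha]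
  have hAz' : As D z' = As D e' := by
    rw [hAe', ← hA, hz', ← As_conj hD, inv_self hD ha]
  have hez' : (e * z') ^ 4 = 1 := by
    by_contra h2
    have h3 : (e' * z) ^ 4 ≠ 1 := by
      intro h4
      apply h2
      have e1 : MulAut.conj a ((e' * z) ^ 4) = 1 := by rw [h4, map_one]
      rw [map_pow, map_mul, MulAut.conj_apply, MulAut.conj_apply, inv_self hD ha,
        show a * e' * a = (a * a) * e * (a * a) by rw [he']; group, sq_one hD ha, one_mul, mul_one] at e1
      exact e1
    rcases sq_mem hD he ha hea with h4 | h4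
    · apply h3
      rw [haea, show v = 1 from h4, mul_one]
      exact comm_four hD he hz cez
    · have h5 : e * e' ∈ D := by
        rw [haea, ← mul_assoc, sq_one hD he, one_mul]; exact h4
      exact ne_one hD he (commuting_odd hD (sq_one hD he) he'D hz h5 cee' cez h3)
  rcases sq_mem hD he hz'D hez' with h2 | h2
  · exact comm_of_sq (sq_one hD he) (sq_one hD hz'D) h2
  exfalso
  obtain ⟨-, cse, csz', hezs, hzes, -⟩ := four_facts (sq_one hD he) (sq_one hD hz'D) hez'
  set s := (e * z') ^ 2 with hs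
  have A1 : As D s = As D z' := by
    refine line_same hD hc hz'D h2 (hezs ▸ conj_self hD he hz'D) csz' ?_
    rw [← hezs, show e * z' * e = e * z' * e⁻¹ by rw [inv_self hD he], As_conj hD, hAz',
      As_conj_comm hD cee']
  have A2 : As D s = As D e := by
    refine line_same hD hc he h2 (hzes ▸ conj_self hD hz'D he) cse ?_
    rw [← hzes, show z' * e * z' = z' * e * z'⁻¹ by rw [inv_self hD hz'D], As_conj hD, ← hA,
      As_conj_comm hD czz'.symm]
  have A3 : As D a' = As D z := by
    refine line_same hD hc hz h1 (haza ▸ hz'D) ca'z ?_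
    rw [← haza, hA, ← A2, A1]
  have h4 : (a' * y) ^ 4 ≠ 1 := (A3.symm ▸ (⟨hy, hzy⟩ : y ∈ As D z) : y ∈ As D a').2
  have h5 : a * a' ∈ D := hzaz ▸ conj_self hD hz ha
  exact ne_one hD ha (commuting_odd hD (sq_one hD ha) h1 hy h5 ca'a cay h4)

omit hD hc in
/-- The alternating sequence of squares. -/
def seq (z y r : G) : ℕ → G
  | 0 => r
  | k + 1 => ((if Even k then z else y) * seq z y r k) ^ 2

omit hD hc in
/-- The words `w` used to build a translation. -/
def wseq (l : ℕ → G) : ℕ → G
  | 0 => 1
  | 1 => l 0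
  | k + 2 => wseq l k * l (k + 1)

/-- The main step: there is no `x` commuting with `z` that moves `e` to `ez` when `e`, `z`, `ez`
have the same odd partners. -/
theorem no_move {e z x : G} (he : e ∈ D) (hz : z ∈ D) (hx : x ∈ D) (cez : e * z = z * e)
    (cxz : x * z = z * x) (hxex : x * e * x = e * z) (hxz : x * z ∈ D) (hA : As D z = As D e) :
    False := by
  by_cases hAx : As D e ⊆ As D x
  · have hAx' : As D x = As D e := by
      refine (Set.eq_of_subset_of_ncard_le hAx ?_ (Set.toFinite _)).symm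
      obtain ⟨g, rfl⟩ := conjugate hD hc he hx
      rw [As_conj hD, Set.ncard_image_of_injective _ (MulAut.conj g).injective]
    let F : Set G := {f | f ∈ D ∧ As D f = As D e}
    let M := Subgroup.closure F
    have hN4 : ∀ f ∈ F, ∀ f' ∈ F, (f * f') ^ 4 = 1 := by
      intro f hf f' hf'
      by_contra h
      have h1 : f' ∈ As D f' := by
        rw [hf'.2, ← hf.2]; exact ⟨hf'.1, h⟩
      exact h1.2 (comm_four hD hf'.1 hf'.1 rfl)
    have hFconj : ∀ g ∈ F, ∀ f ∈ F, g * f * g⁻¹ ∈ F := by
      intro g hg f hf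
      refine ⟨hD.conj_mem f hf.1 g, ?_⟩
      rw [As_conj hD, hf.2, ← hg.2, As_conj_comm hD rfl]
    have hMconj : ∀ m ∈ M, ∀ f ∈ F, m * f * m⁻¹ ∈ F := by
      intro m hm
      induction hm using Subgroup.closure_induction'' with
      | mem g hg => exact hFconj g hg
      | inv_mem g hg => rw [inv_self hD hg.1]; exact hFconj g hg
      | one => intro f hf; simpa using hf
      | mul a b _ _ iha ihb =>
        intro f hf
        have := iha _ (ihb f hf)
        rwa [show a * (b * f * b⁻¹) * a⁻¹ = a * b * f * (a * b)⁻¹ by group] at this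
    haveI : Fact (Nat.Prime 2) := ⟨Nat.prime_two⟩
    obtain ⟨P⟩ := (inferInstance : Nonempty (Sylow 2 M))
    have hFP : ∀ f : M, (f : G) ∈ F → f ∈ (P : Subgroup M) := by
      intro f hf
      have hz2 : ∀ g : M, (g : G) ∈ F → IsPGroup 2 (Subgroup.zpowers g) := by
        intro g hg
        apply IsPGroup.of_card (n := 1)
        rw [Nat.card_zpowers, pow_one, ← orderOf_injective M.subtype M.subtype_injective g]
        exact hD.orderOf_eq _ hg.1
      obtain ⟨N, hN, hN2, hfN⟩ := Inv.baerSuzuki (p := 2) (Subgroup.zpowers f) (hz2 f hf) fun g => by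
        have eg : MulAut.conj g • Subgroup.zpowers f = Subgroup.zpowers (g * f * g⁻¹) := by
          show (Subgroup.zpowers f).map _ = _
          exact MonoidHom.map_zpowers _ f
        rw [eg]
        set f' := g * f * g⁻¹ with hf'def
        have hf' : (f' : G) ∈ F := by
          simpa [hf'def] using hMconj g g.2 f hf
        set ρ := f * f' with hρ
        have hρ4 : ρ ^ 4 = 1 := Subtype.ext (by simpa [hρ] using hN4 _ hf _ hf')
        have hfi : f⁻¹ = f := Subtype.ext (by simpa using inv_self hD hf.1)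
        have hf'i : f'⁻¹ = f' := Subtype.ext (by simpa using inv_self hD hf'.1)
        have hρp : IsPGroup 2 (Subgroup.zpowers ρ) := by
          obtain ⟨j, -, hj⟩ := (Nat.dvd_prime_pow Nat.prime_two).1
            (show orderOf ρ ∣ 2 ^ 2 by simpa using orderOf_dvd_of_pow_eq_one hρ4)
          exact IsPGroup.of_card (n := j) (by rw [Nat.card_zpowers, hj])
        have hle : Subgroup.zpowers f ⊔ Subgroup.zpowers f' ≤ Subgroup.zpowers ρ ⊔ Subgroup.zpowers f := by
          refine sup_le le_sup_right (Subgroup.zpowers_le.2 ?_)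
          have : f' = f⁻¹ * ρ := by rw [hρ]; group
          rw [this]
          exact mul_mem (inv_mem (Subgroup.mem_sup_right (Subgroup.mem_zpowers f)))
            (Subgroup.mem_sup_left (Subgroup.mem_zpowers ρ))
        refine (IsPGroup.to_sup_of_normal_left' hρp (hz2 f hf) ?_).to_le hle
        rw [Subgroup.zpowers_le, Subgroup.mem_normalizer_iff]
        have hc1 : f * ρ * f⁻¹ = ρ⁻¹ := by
          calc f * ρ * f⁻¹ = (f * f) * f' * f⁻¹ := by rw [hρ]; group
            _ = ρ⁻¹ := by
              rw [hfi, show f * f = 1 by nth_rw 1 [← hfi]; group, one_mul, hρ, mul_inv_rev, hfi, hf'i]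
        intro h
        constructor
        · rintro ⟨i, rfl⟩
          exact ⟨-i, by rw [← MulAut.conj_apply, map_zpow, MulAut.conj_apply, hc1, inv_zpow', ]⟩
        · rintro ⟨i, hi⟩
          refine ⟨-i, ?_⟩
          apply (MulAut.conj f).injective
          rw [map_zpow, MulAut.conj_apply, MulAut.conj_apply, hc1, inv_zpow', neg_neg]
          exact hi
      refine P.is_maximal' (IsPGroup.to_sup_of_normal_left hN2 P.isPGroup') le_sup_right ▸
        Subgroup.mem_sup_left (hfN (Subgroup.mem_zpowers f))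
    have htop : (Subgroup.closure (M.subtype ⁻¹' F) : Subgroup M) = ⊤ :=
      Subgroup.closure_closure_coe_preimage
    have hP : (P : Subgroup M) = ⊤ := by
      rw [eq_top_iff, ← htop, Subgroup.closure_le]
      exact fun f hf => hFP f hf
    have hM2 : IsPGroup 2 M := by
      intro m
      obtain ⟨k, hk⟩ := P.isPGroup' ⟨m, hP ▸ Subgroup.mem_top m⟩
      exact ⟨k, by simpa using congrArg Subtype.val hk⟩
    have heF : e ∈ F := ⟨he, rfl⟩
    haveI : Nontrivial M :=
      ⟨⟨⟨e, Subgroup.subset_closure heF⟩, 1, fun h => ne_one hD he (congrArg Subtype.val h)⟩⟩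
    haveI : Group.IsNilpotent M := hM2.isNilpotent
    apply (IsSolvable.commutator_lt_top_of_nontrivial M).ne
    rw [eq_top_iff, ← htop, Subgroup.closure_le]
    intro f hf
    obtain ⟨g, hg⟩ := conjugate hD hc hz (hf : (f : G) ∈ F).1
    have hgF : ∀ f' ∈ F, g * f' * g⁻¹ ∈ F := fun f' hf' =>
      ⟨hD.conj_mem f' hf'.1 g, by rw [As_conj hD, hf'.2, ← hA, ← As_conj hD, ← hg, hA]; exact (hf : (f : G) ∈ F).2⟩
    have h1 : g * e * g⁻¹ ∈ M := Subgroup.subset_closure (hgF e heF)
    have h2 : g * x * g⁻¹ ∈ M := Subgroup.subset_closure (hgF x ⟨hx, hAx'⟩)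
    have hf' : f = ⁅(⟨_, h1⟩ : M), (⟨_, h2⟩ : M)⁆ := by
      apply Subtype.ext
      show (f : G) = g * e * g⁻¹ * (g * x * g⁻¹) * (g * e * g⁻¹)⁻¹ * (g * x * g⁻¹)⁻¹
      rw [show (f : G) = _ from hg]
      have : z = e * x * e⁻¹ * x⁻¹ := by
        rw [inv_self hD he, inv_self hD hx]
        calc z = (e * e) * z := by rw [sq_one hD he, one_mul]
          _ = e * (x * e * x) := by rw [hxex, mul_assoc]
          _ = e * x * e * x := by group
      rw [this]
      group
    rw [SetLike.mem_coe, hf']
    exact Subgroup.commutator_mem_commutator (Subgroup.mem_top _) (Subgroup.mem_top _)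
  obtain ⟨y, hyA, hyx⟩ := Set.not_subset.1 hAx
  have hy : y ∈ D := hyA.1
  have hzy : (z * y) ^ 4 ≠ 1 := (hA.symm ▸ hyA : y ∈ As D z).2
  have hxy : (x * y) ^ 4 = 1 := by
    by_contra h
    exact hyx ⟨hy, h⟩
  obtain ⟨r2, crx, cry, hxyx, hyxy, -⟩ := four_facts (sq_one hD hx) (sq_one hD hy) hxy
  set r := (x * y) ^ 2 with hrdef
  have hr : r ∈ D := by
    refine (sq_mem hD hx hy hxy).resolve_left fun h => ?_
    exact ne_one hD hx (commuting_odd hD (sq_one hD hx) hz hy hxz cxz
      (comm_of_sq (sq_one hD hx) (sq_one hD hy) h) hzy)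
  have hzr : (z * r) ^ 4 = 1 := by
    by_contra h
    exact ne_one hD hx (commuting_odd hD (sq_one hD hx) hz hr hxz cxz crx h)
  -- the sequence and its closure
  let s : ℕ → G := fun k => if Even k then z else y
  let t : ℕ → G := fun k => if Even k then y else z
  have hst : ∀ k, s (k + 1) = t k ∧ t (k + 1) = s k := by
    intro k
    by_cases hk : Even k <;> simp [s, t, hk, Nat.even_add_one]
  let a := seq z y r
  have hstep : ∀ k, a (k + 1) = (s k * a k) ^ 2 := fun k => rfl
  have hsD : ∀ k, s k ∈ D := fun k => by by_cases hk : Even k <;> simp [s, hk, hz, hy]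
  have htD : ∀ k, t k ∈ D := fun k => by by_cases hk : Even k <;> simp [t, hk, hz, hy]
  have inv1 : ∀ k, (a k = 1 ∨ a k ∈ D) ∧ t k * a k = a k * t k ∧ (s k * a k) ^ 4 = 1 := by
    intro k
    induction k with
    | zero => exact ⟨Or.inr hr, by simpa [t, a, seq] using cry, by simpa [s, a, seq] using hzr⟩
    | succ k ih =>
      obtain ⟨h1, h2, h3⟩ := ih
      rw [(hst k).1, (hst k).2]
      have htriv : a (k + 1) = 1 → (a (k + 1) = 1 ∨ a (k + 1) ∈ D) ∧
          s k * a (k + 1) = a (k + 1) * s k ∧ (t k * a (k + 1)) ^ 4 = 1 := fun h =>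
        ⟨Or.inl h, by rw [h, mul_one, one_mul],
          by rw [h, mul_one, four_pow (t k), sq_one hD (htD k), one_mul]⟩
      rcases h1 with h1 | h1
      · exact htriv (by rw [hstep, h1, mul_one, pow_two, sq_one hD (hsD k)])
      obtain ⟨-, csa', caa', hsas, -, -⟩ := four_facts (sq_one hD (hsD k)) (sq_one hD h1) h3
      rw [← hstep] at csa' caa' hsas
      rcases sq_mem hD (hsD k) h1 h3 with h4 | h4
      · exact htriv h4
      rw [← hstep] at h4
      refine ⟨Or.inr h4, csa', ?_⟩
      by_contra h5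
      exact ne_one hD h1 (commuting_odd hD (sq_one hD h1) h4 (htD k)
        (hsas ▸ conj_self hD (hsD k) h1) caa' h2.symm (pow4_symm_ne h5))
  have ha2 : ∀ k, a k * a k = 1 := fun k => by
    rcases (inv1 k).1 with h | h
    · rw [h, one_mul]
    · exact sq_one hD h
  have hsas : ∀ k, s k * a k * s k = a k * a (k + 1) := fun k =>
    (four_facts (sq_one hD (hsD k)) (ha2 k) (inv1 k).2.2).2.2.2.1
  have htat : ∀ k, t k * a k * t k = a k := fun k => by
    rw [(inv1 k).2.1, mul_assoc, sq_one hD (htD k), mul_one]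
  have inv2 : ∀ k, ∀ i ≤ k, Commute (a i) (a k) := by
    intro k
    induction k with
    | zero =>
      intro i hi
      rw [Nat.le_zero.1 hi]
    | succ k ih =>
      have key : ∀ i ≤ k, Commute (s k) (a i) → Commute (a i) (a (k + 1)) := fun i hi h => by
        rw [hstep]
        exact (Commute.mul_right h.symm (ih i hi)).pow_right 2
      intro i hi
      rcases Nat.eq_or_lt_of_le hi with rfl | hi
      · exact Commute.refl _
      have hik : i ≤ k := Nat.lt_succ_iff.1 hi
      by_cases hpar : (Even i ↔ Even k)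
      · rcases Nat.eq_or_lt_of_le hik with rfl | hik'
        · exact (four_facts (sq_one hD (hsD i)) (ha2 i) (inv1 i).2.2).2.2.1
        have hsi : s i = s k := by simp only [s, hpar]
        have hi1 : Commute (a (i + 1)) (a (k + 1)) := by
          refine key (i + 1) hik' ?_
          rw [← hsi, ← (hst i).2]
          exact (inv1 (i + 1)).2.1
        have h1 : Commute (a i * a (i + 1)) (a k * a (k + 1)) := by
          have h0 := (ih i hik).map (MulAut.conj (s k))
          simp only [MulAut.conj_apply, inv_self hD (hsD k)] at h0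
          rwa [hsas k, ← hsi, hsas i] at h0
        have h2 : Commute (a i * a (i + 1)) (a k) :=
          Commute.mul_left (ih i hik) (ih (i + 1) hik')
        have h3 : Commute (a i * a (i + 1)) (a (k + 1)) := by
          have := h2.inv_right.mul_right h1
          rwa [inv_mul_cancel_left] at this
        have := h3.mul_left hi1.inv_left
        rwa [mul_inv_cancel_right] at this
      · refine key i hik ?_
        have : s k = t i := by
          by_cases hk : Even k <;> by_cases hi' : Even i <;> simp_all [s, t]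
        rw [this]
        exact (inv1 i).2.1
  have hcomm : ∀ i j, Commute (a i) (a j) := fun i j =>
    (le_total i j).elim (fun h => inv2 j i h) (fun h => (inv2 i j h).symm)
  have inv3 : ∀ k, Commute x (a k) := by
    intro k
    induction k with
    | zero => exact crx
    | succ k ih =>
      rw [hstep]
      by_cases hk : Even k
      · simp only [s, if_pos hk]
        exact (Commute.mul_right (show Commute x z from cxz) ih).pow_right 2
      · simp only [s, if_neg hk]
        have h1 : x * (y * a k) ^ 2 * x = (y * a k) ^ 2 := by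
          calc x * (y * a k) ^ 2 * x = MulAut.conj x ((y * a k) ^ 2) := by
                rw [MulAut.conj_apply, inv_self hD hx]
            _ = ((y * r) * a k) ^ 2 := by
                rw [map_pow, map_mul, MulAut.conj_apply, MulAut.conj_apply, inv_self hD hx, hxyx, ih.eq,
                  mul_assoc (a k) x x, sq_one hD hx, mul_one]
            _ = (r * (y * a k)) ^ 2 := by rw [show y * r = r * y from cry, mul_assoc]
            _ = _ := by
                have h2 : Commute r (y * a k) := Commute.mul_right (show Commute y r from cry).symm (hcomm 0 k)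
                rw [h2.mul_pow, pow_two, r2, one_mul]
        show x * _ = _ * x
        conv_rhs => rw [← h1, mul_assoc (x * _) x x, sq_one hD hx, mul_one]
  let W := Subgroup.closure (Set.range a)
  have haW : ∀ k, a k ∈ W := fun k => Subgroup.subset_closure ⟨k, rfl⟩
  have hWc : ∀ v ∈ W, ∀ w ∈ W, Commute v w := by
    have h1 : W ≤ Subgroup.centralizer (Set.range a) := by
      rw [Subgroup.closure_le]
      rintro _ ⟨i, rfl⟩ _ ⟨j, rfl⟩
      exact hcomm j i
    intro v hv w hw
    induction hw using Subgroup.closure_induction with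
    | mem w hw => exact (h1 hv w hw).symm
    | one => exact Commute.one_right v
    | mul _ _ _ _ h2 h3 => exact h2.mul_right h3
    | inv _ _ h2 => exact h2.inv_right
  letI : CommGroup W :=
    { (inferInstance : Group W) with mul_comm := fun v w => Subtype.ext (hWc v v.2 w w.2).eq }
  have hW2 : ∀ w ∈ W, w * w = 1 := by
    intro w hw
    induction hw using Subgroup.closure_induction with
    | mem w hw => obtain ⟨i, rfl⟩ := hw; exact ha2 i
    | one => exact one_mul 1
    | mul v w hv hw h2 h3 =>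
      calc v * w * (v * w) = v * (w * v) * w := by group
        _ = v * (v * w) * w := by rw [(hWc w hw v hv).eq]
        _ = (v * v) * (w * w) := by group
        _ = 1 := by rw [h2, h3, one_mul]
    | inv v _ h2 => rw [← mul_inv_rev, h2, inv_one]
  have hWx : ∀ w ∈ W, Commute x w := by
    intro w hw
    induction hw using Subgroup.closure_induction with
    | mem w hw => obtain ⟨i, rfl⟩ := hw; exact inv3 i
    | one => exact Commute.one_right x
    | mul _ _ _ _ h2 h3 => exact h2.mul_right h3
    | inv _ _ h2 => exact h2.inv_right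
  have hWst : ∀ g : G, g * g = 1 → (∀ i, g * a i * g ∈ W) → ∀ w ∈ W, g * w * g ∈ W := by
    intro g hg h w hw
    induction hw using Subgroup.closure_induction with
    | mem w hw => obtain ⟨i, rfl⟩ := hw; exact h i
    | one => rw [mul_one, hg]; exact one_mem _
    | mul v w _ _ h2 h3 =>
      rw [show g * (v * w) * g = g * v * g * (g⁻¹ * w * g) by group, inv_eq_of_mul_eq_one_right hg]
      exact mul_mem h2 h3
    | inv v _ h2 =>
      have := inv_mem h2
      rwa [mul_inv_rev, mul_inv_rev, inv_eq_of_mul_eq_one_right hg, ← mul_assoc] at this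
  have hWz : ∀ w ∈ W, z * w * z ∈ W := hWst z (sq_one hD hz) fun i => by
    by_cases hi : Even i
    · have := hsas i
      simp only [s, if_pos hi] at this
      rw [this]; exact mul_mem (haW i) (haW _)
    · have := htat i
      simp only [t, if_neg hi] at this
      rw [this]; exact haW i
  have hWy : ∀ w ∈ W, y * w * y ∈ W := hWst y (sq_one hD hy) fun i => by
    by_cases hi : Even i
    · have := htat i
      simp only [t, if_pos hi] at this
      rw [this]; exact haW i
    · have := hsas i
      simp only [s, if_neg hi] at this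
      rw [this]; exact mul_mem (haW i) (haW _)
  set ρ := z * y with hρ
  have hzi := inv_self hD hz
  have hyi := inv_self hD hy
  have hρi : ρ⁻¹ = y * z := by rw [hρ, mul_inv_rev, hzi, hyi]
  have hrW : r ∈ W := haW 0
  let l : ℕ → G := fun k => ρ⁻¹ ^ k * r * ρ ^ k
  let u : ℕ → G := fun k => z * l k * z
  have hl : ∀ k, y * u k * y = l (k + 1) := by
    intro k
    simp only [u, l]
    calc y * (z * (ρ⁻¹ ^ k * r * ρ ^ k) * z) * y = (y * z) * ρ⁻¹ ^ k * r * ρ ^ k * (z * y) := by group
      _ = _ := by rw [← hρi, ← hρ, pow_succ' ρ⁻¹, pow_succ ρ]; group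
  have hlW : ∀ k, l k ∈ W := by
    intro k
    induction k with
    | zero => simpa [l] using hrW
    | succ k ih => rw [← hl]; exact hWy _ (hWz _ ih)
  have huW : ∀ k, u k ∈ W := fun k => hWz _ (hlW k)
  have hu : ∀ k, u k = ρ ^ (k + 1) * r * (ρ ^ (k + 1))⁻¹ := by
    intro k
    have e1 : z * ρ⁻¹ * z = ρ := by rw [hρi, hρ, mul_assoc, mul_assoc, sq_one hD hz, mul_one]
    have e2 : z * r * z = ρ * r * ρ⁻¹ := by
      rw [hρi, hρ]
      calc z * r * z = z * (r * (y * y)) * z := by rw [sq_one hD hy, mul_one]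
        _ = z * y * r * (y * z) := by rw [← mul_assoc r, ← cry]; group
    calc u k = MulAut.conj z (ρ⁻¹ ^ k * r * (ρ⁻¹ ^ k)⁻¹) := by
          simp only [u, l, MulAut.conj_apply, hzi, inv_pow, inv_inv]
      _ = ρ ^ k * (ρ * r * ρ⁻¹) * (ρ ^ k)⁻¹ := by
          rw [map_mul, map_mul, map_inv, map_pow, MulAut.conj_apply, MulAut.conj_apply, hzi, e1, e2]
      _ = _ := by rw [pow_succ]; group
  let Q : ℕ → G := fun k => Nat.rec 1 (fun k q => q * (u k * l (k + 1))) k
  have hQ : ∀ k, Q (k + 1) = Q k * (u k * l (k + 1)) := fun k => rfl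
  have hQW : ∀ k, Q k ∈ W := by
    intro k
    induction k with
    | zero => exact one_mem _
    | succ k ih => rw [hQ]; exact mul_mem ih (mul_mem (huW k) (hlW _))
  have hQr : ∀ k, Q k * r = (ρ ^ k)⁻¹ * (r * ρ) ^ (2 * k + 1) * (ρ ^ (k + 1))⁻¹ := by
    intro k
    induction k with
    | zero => simp [Q]
    | succ k ih =>
      have h1 : Q k * (u k * l (k + 1)) * r = l (k + 1) * (Q k * r) * u k :=
        congrArg Subtype.val (show (⟨_, hQW k⟩ : W) * (⟨_, huW k⟩ * ⟨_, hlW (k + 1)⟩) * ⟨r, hrW⟩ =
          ⟨_, hlW (k + 1)⟩ * (⟨_, hQW k⟩ * ⟨r, hrW⟩) * ⟨_, huW k⟩ by ac_rfl)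
      rw [hQ, h1, ih, hu k]
      simp only [l, inv_pow]
      rw [show 2 * (k + 1) + 1 = (2 * k + 1) + 1 + 1 by ring, pow_succ (r * ρ) (2 * k + 1 + 1),
        pow_succ' (r * ρ) (2 * k + 1)]
      generalize (r * ρ) ^ (2 * k + 1) = P
      simp only [pow_succ]
      group
  let c : ℕ → G := fun k => wseq l k * z * wseq l k * z
  have hwW : ∀ k, wseq l k ∈ W := by
    intro k
    induction k using Nat.twoStepInduction with
    | zero => exact one_mem _
    | one => exact hlW 0
    | more k ih _ => exact mul_mem ih (hlW _)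
  have hcW : ∀ k, c k ∈ W := fun k => by
    have := mul_mem (hwW k) (hWz _ (hwW k))
    simpa [c, mul_assoc] using this
  have hyl : ∀ k, y * l (k + 1) * y = u k := by
    intro k
    rw [← hl k, show y * (y * u k * y) * y = (y * y) * u k * (y * y) by group, sq_one hD hy, one_mul, mul_one]
  have hcQ : ∀ k, y * c k * y * c k = Q k := by
    intro k
    induction k using Nat.twoStepInduction with
    | zero => simp [c, wseq, Q, sq_one hD hz, sq_one hD hy]
    | one =>
      have h1 : c 1 = r * u 0 := by simp [c, wseq, u, l, mul_assoc]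
      have h2 : y * (r * u 0) * y = r * l 1 := by
        rw [← hl 0, show y * (r * u 0) * y = (y * r) * u 0 * y by group, cry]
        group
      rw [h1, h2, show Q 1 = u 0 * l 1 from one_mul _]
      have h4 : r * l 1 * (r * u 0) = (r * r) * (u 0 * l 1) :=
        congrArg Subtype.val (show (⟨r, hrW⟩ : W) * ⟨_, hlW 1⟩ * (⟨r, hrW⟩ * ⟨_, huW 0⟩) =
          (⟨r, hrW⟩ * ⟨r, hrW⟩) * (⟨_, huW 0⟩ * ⟨_, hlW 1⟩) by ac_rfl)
      rw [h4, r2, one_mul]
    | more k ih _ =>
      have h1 : c (k + 2) = c k * (l (k + 1) * u (k + 1)) := by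
        have h2 : (wseq l k * l (k + 1)) * ((z * wseq l k * z) * u (k + 1)) =
            (wseq l k * (z * wseq l k * z)) * (l (k + 1) * u (k + 1)) :=
          congrArg Subtype.val (show ((⟨_, hwW k⟩ : W) * ⟨_, hlW (k + 1)⟩) *
              (⟨_, hWz _ (hwW k)⟩ * ⟨_, huW (k + 1)⟩) =
            (⟨_, hwW k⟩ * ⟨_, hWz _ (hwW k)⟩) * (⟨_, hlW (k + 1)⟩ * ⟨_, huW (k + 1)⟩) by ac_rfl)
        calc c (k + 2) = (wseq l k * l (k + 1)) * ((z * wseq l k) * (z * z) * (l (k + 1) * z)) := by
              simp only [c, wseq, sq_one hD hz]; group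
          _ = (wseq l k * l (k + 1)) * ((z * wseq l k * z) * u (k + 1)) := by simp only [u]; group
          _ = _ := by rw [h2]; simp only [c]; group
      have h3 : y * c (k + 2) * y = (y * c k * y) * (u k * l (k + 2)) := by
        rw [h1, ← hyl k, ← hl (k + 1),
          show y * l (k + 1) * y * (y * u (k + 1) * y) = y * (l (k + 1) * (y * y) * u (k + 1)) * y by group,
          sq_one hD hy, mul_one,
          show y * c k * y * (y * (l (k + 1) * u (k + 1)) * y)
            = y * c k * (y * y) * (l (k + 1) * u (k + 1)) * y by group,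
          sq_one hD hy, mul_one]
        group
      rw [hQ (k + 1), hQ k, ← ih, h3, h1]
      exact congrArg Subtype.val (show (⟨_, hWy _ (hcW k)⟩ : W) * (⟨_, huW k⟩ * ⟨_, hlW (k + 2)⟩) *
          (⟨_, hcW k⟩ * (⟨_, hlW (k + 1)⟩ * ⟨_, huW (k + 1)⟩)) =
        (⟨_, hWy _ (hcW k)⟩ * ⟨_, hcW k⟩) * (⟨_, huW k⟩ * ⟨_, hlW (k + 1)⟩) *
          (⟨_, huW (k + 1)⟩ * ⟨_, hlW (k + 2)⟩) by ac_rfl)
  obtain ⟨m, hm⟩ := (odd_of hD hz hy hzy).1
  rw [← hρ] at hm
  have hn : (r * ρ) ^ (2 * m + 1) = 1 := by
    have h1 : (ρ * r) ^ (2 * m + 1) = 1 := by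
      have h2 : MulAut.conj x ρ = ρ * r := by
        rw [hρ, map_mul, MulAut.conj_apply, MulAut.conj_apply, inv_self hD hx, hxyx, cxz, mul_assoc z,
          sq_one hD hx, mul_one, mul_assoc]
      rw [← h2, ← map_pow, ← hm, pow_orderOf_eq_one, map_one]
    have h3 : MulAut.conj r (ρ * r) = r * ρ := by
      rw [MulAut.conj_apply]; group
    rw [← h3, ← map_pow, h1, map_one]
  have hρn : ρ ^ m * ρ ^ (m + 1) = 1 := by
    rw [← pow_add, show m + (m + 1) = orderOf ρ by omega, pow_orderOf_eq_one]
  have hQm : Q m = r := by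
    have h1 := hQr m
    rw [hn, mul_one, eq_inv_of_mul_eq_one_right hρn, inv_inv, inv_mul_cancel] at h1
    rw [eq_inv_of_mul_eq_one_left h1, inv_eq_of_mul_eq_one_right r2]
  have hcm := hcQ m
  rw [hQm] at hcm
  have hcz : z * c m = c m * z := by
    simp only [c]
    calc z * (wseq l m * z * wseq l m * z) = (z * wseq l m * z) * wseq l m * z := by group
      _ = (wseq l m * (z * wseq l m * z)) * z := by rw [(hWc _ (hWz _ (hwW m)) _ (hwW m)).eq]
      _ = _ := by group
  have hyxy' : y * x * y = x * r := hyxy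
  have hycy : y * c m * y = r * c m := by
    calc y * c m * y = (y * c m * y) * (c m * c m) := by rw [hW2 _ (hcW m), mul_one]
      _ = r * c m := by rw [← mul_assoc, hcm]
  have hp1 : x * c m = 1 := by
    refine commuting_odd hD ?_ hz hy ?_ ?_ ?_ hzy
    · calc x * c m * (x * c m) = x * (c m * x) * c m := by group
        _ = x * (x * c m) * c m := by rw [(hWx _ (hcW m)).eq]
        _ = (x * x) * (c m * c m) := by group
        _ = 1 := by rw [sq_one hD hx, hW2 _ (hcW m), one_mul]
    · have h1 : x * c m * z = wseq l m * (x * z) * wseq l m := by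
        have h2 : x * c m * z = x * wseq l m * z * wseq l m * (z * z) := by simp only [c]; group
        rw [h2, sq_one hD hz, mul_one, (hWx _ (hwW m)).eq]
        group
      rw [h1]
      have h3 := hD.conj_mem _ hxz (wseq l m)
      rwa [inv_eq_of_mul_eq_one_right (hW2 _ (hwW m))] at h3
    · calc x * c m * z = x * (c m * z) := by group
        _ = x * (z * c m) := by rw [hcz]
        _ = (x * z) * c m := by group
        _ = (z * x) * c m := by rw [cxz]
        _ = _ := by group
    · have h1 : y * (x * c m) * y = x * c m := by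
        calc y * (x * c m) * y = y * x * (y * y) * c m * y := by rw [sq_one hD hy, mul_one]; group
          _ = (y * x * y) * (y * c m * y) := by group
          _ = x * (r * r) * c m := by rw [hyxy', hycy]; group
          _ = _ := by rw [r2, mul_one]
      calc x * c m * y = (y * (x * c m) * y) * y := by rw [h1]
        _ = y * (x * c m) * (y * y) := by group
        _ = _ := by rw [sq_one hD hy, mul_one]
  have hodd : ∀ k, Even k → Commute e (a (k + 1)) := by
    intro k hk
    rw [hstep]
    rcases (inv1 k).1 with h | h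
    · rw [h, mul_one, pow_two, sq_one hD (hsD k)]; exact Commute.one_right e
    simp only [s, if_pos hk]
    refine comm_step hD hc he hz h hy cez hA ?_ hzy ?_
    · have := (inv1 k).2.1
      simp only [t, if_pos hk] at this
      exact this.symm
    · have := (inv1 k).2.2
      simpa only [s, if_pos hk] using this
  have hec : ∀ w ∈ W, Commute e (w * z * w * z) := by
    intro w hw
    induction hw using Subgroup.closure_induction with
    | mem w hw =>
      obtain ⟨i, rfl⟩ := hw
      by_cases hi : Even i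
      · have := hsas i
        simp only [s, if_pos hi] at this
        rw [show a i * z * a i * z = a i * (z * a i * z) by group, this, ← mul_assoc, ha2, one_mul]
        exact hodd i hi
      · have := htat i
        simp only [t, if_neg hi] at this
        rw [show a i * z * a i * z = a i * (z * a i * z) by group, this, ha2]
        exact Commute.one_right e
    | one => rw [one_mul, mul_one, sq_one hD hz]; exact Commute.one_right e
    | mul v w hv hw h2 h3 =>
      have h4 : v * w * ((z * v * z) * (z * w * z)) = (v * (z * v * z)) * (w * (z * w * z)) :=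
        congrArg Subtype.val (show (⟨v, hv⟩ : W) * ⟨w, hw⟩ * (⟨_, hWz v hv⟩ * ⟨_, hWz w hw⟩) =
          (⟨v, hv⟩ * ⟨_, hWz v hv⟩) * (⟨w, hw⟩ * ⟨_, hWz w hw⟩) by ac_rfl)
      have h5 : (v * w) * z * (v * w) * z = (v * z * v * z) * (w * z * w * z) := by
        calc (v * w) * z * (v * w) * z = (v * w) * (z * v * (z * z) * w * z) := by
              rw [sq_one hD hz, mul_one]; group
          _ = v * w * ((z * v * z) * (z * w * z)) := by group
          _ = _ := by rw [h4]; group
      rw [h5]
      exact h2.mul_right h3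
    | inv v hv h2 => rwa [inv_eq_of_mul_eq_one_right (hW2 v hv)]
  have hxc : x = c m := by
    rw [eq_inv_of_mul_eq_one_left hp1, inv_eq_of_mul_eq_one_right (hW2 _ (hcW m))]
  have hex : Commute e x := by
    rw [hxc]; exact hec _ (hwW m)
  apply ne_one hD hz
  have h1 : e * z = e := by rw [← hxex, ← hex.eq, mul_assoc, sq_one hD hx, mul_one]
  simpa using h1

/-- Members with the same commuting members have the same odd partners, and conversely. -/
theorem commutingMembers_eq_iff {d e : G} (hd : d ∈ D) (he : e ∈ D) :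
    commutingMembers D d = commutingMembers D e ↔ As D d = As D e := by
  constructor
  · have key : ∀ p ∈ D, ∀ q ∈ D, commutingMembers D p = commutingMembers D q → As D p ⊆ As D q := by
      rintro p hp q hq h x ⟨hx, hx4⟩
      refine ⟨hx, fun h4 => ?_⟩
      obtain ⟨-, czq, czx, hqxq, -, -⟩ := four_facts (sq_one hD hq) (sq_one hD hx) h4
      rcases sq_mem hD hq hx h4 with h1 | h1
      · have h2 : x ∈ commutingMembers D p := by
          rw [h]; exact ⟨hx, (comm_of_sq (sq_one hD hq) (sq_one hD hx) h1).symm⟩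
        exact hx4 (comm_four hD hp hx h2.2.symm)
      · have h2 : (q * x) ^ 2 ∈ commutingMembers D p := by
          rw [h]; exact ⟨h1, czq.symm⟩
        exact ne_one hD h1 (commuting_odd hD (sq_one hD h1) hx hp
          (czx ▸ (hqxq ▸ conj_self hD hq hx)) czx.symm h2.2 (pow4_symm_ne hx4))
    exact fun h => Set.Subset.antisymm (key d hd e he h) (key e he d hd h.symm)
  · intro h
    have key : ∀ p ∈ D, ∀ q ∈ D, As D p = As D q → commutingMembers D p ⊆ commutingMembers D q := by
      rintro p hp q hq h x ⟨hx, hxp⟩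
      have h4 : (q * x) ^ 4 = 1 := by
        by_contra h4
        exact (h.symm ▸ (⟨hx, h4⟩ : x ∈ As D q) : x ∈ As D p).2 (comm_four hD hp hx hxp.symm)
      obtain ⟨-, czq, czx, hqxq, hxqx, -⟩ := four_facts (sq_one hD hq) (sq_one hD hx) h4
      refine ⟨hx, ?_⟩
      rcases sq_mem hD hq hx h4 with h1 | h1
      · exact (comm_of_sq (sq_one hD hq) (sq_one hD hx) h1).symm
      exfalso
      refine no_move hD hc hq h1 hx czq czx hxqx (hqxq ▸ conj_self hD hq hx) ?_
      refine line_same hD hc hq h1 (hxqx ▸ conj_self hD hx hq) czq ?_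
      rw [← hxqx, show x * q * x = x * q * x⁻¹ by rw [inv_self hD hx], As_conj hD, ← h,
        As_conj_comm hD hxp]
    exact Set.Subset.antisymm (key d hd e he h) (key e he d hd h.symm)

omit hc [Finite G] in
theorem union_eq {d : G} (hd : d ∈ D) :
    commutingMembers D d ∪ fourPartners D d = D \ As D d := by
  ext x
  simp only [commutingMembers, fourPartners, As, Set.mem_union, Set.mem_ofPred_eq, Set.mem_diff]
  constructor
  · rintro (⟨hx, h⟩ | ⟨hx, h⟩)
    · exact ⟨hx, fun h' => h'.2 (comm_four hD hd hx h.symm)⟩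
    · exact ⟨hx, fun h' => h'.2 (by rw [← h]; exact pow_orderOf_eq_one _)⟩
  · rintro ⟨hx, h⟩
    have h4 : (d * x) ^ 4 = 1 := by
      by_contra h4; exact h ⟨hx, h4⟩
    rcases hD.pair d hd x hx with h1 | h1 | ⟨h1, -⟩
    · exact Or.inl ⟨hx, h1.symm⟩
    · left
      refine ⟨hx, (comm_of_sq (sq_one hD hd) (sq_one hD hx) ?_).symm⟩
      rcases sq_mem hD hd hx h4 with h2 | h2
      · exact h2
      · exfalso
        have h3 : orderOf (d * x) ∣ 4 := orderOf_dvd_of_pow_eq_one h4
        obtain ⟨k, -, hk⟩ := (Nat.dvd_prime_pow Nat.prime_two).1 (show orderOf (d * x) ∣ 2 ^ 2 by simpa using h3)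
        rcases k with _ | k
        · rw [pow_zero, orderOf_eq_one_iff] at hk
          exact ne_one hD h2 (by rw [hk, one_pow])
        · rw [hk] at h1
          exact absurd h1 (by simp [Nat.not_odd_iff_even, Nat.even_pow])
    · exact Or.inr ⟨hx, h1⟩

end

end Cfsg.Agent.RootInv
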