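import Cfsg.Agent.Lib.RootInv.Basic

/-!
Root involutions: a line whose members commute with different members yields a product of order three.
-/

set_option autoImplicit false

namespace Cfsg.Agent.RootInv

open Cfsg

variable {G : Type*} [Group G] [Finite G] {D : Set G}

/-- For a line `a, b, ab` and an odd partner of `a` that is none of `b`, some member `t` commuting
with `b` satisfies `(at)² = b`. -/
theorem line_root (hD : IsRootInvolutionSet D) {a₀ b u : G} (ha₀ : a₀ ∈ D) (hb : b ∈ D) (hu : u ∈ D)
    (c : a₀ * b = b * a₀) (hab : a₀ * b ∈ D) (hau : (a₀ * u) ^ 4 ≠ 1) (hbu : (b * u) ^ 4 = 1) :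
    ∃ t ∈ D, (a₀ * t) ^ 2 = b ∧ b * t = t * b := by
  classical
  set z := u with hzdef
  set y := a₀ with hydef
  have hz : z ∈ D := hu
  have hy : y ∈ D := ha₀
  let s : ℕ → G := fun k => if Even k then z else y
  let t : ℕ → G := fun k => if Even k then y else z
  have hst : ∀ k, s (k + 1) = t k ∧ t (k + 1) = s k := by
    intro k
    by_cases hk : Even k <;> simp [s, t, hk, Nat.even_add_one]
  let a := seq z y b
  have hstep : ∀ k, a (k + 1) = (s k * a k) ^ 2 := fun k => rfl
  have hsD : ∀ k, s k ∈ D := fun k => by by_cases hk : Even k <;> simp [s, hk, hz, hy]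
  have htD : ∀ k, t k ∈ D := fun k => by by_cases hk : Even k <;> simp [t, hk, hz, hy]
  have inv1 : ∀ k, (a k = 1 ∨ a k ∈ D) ∧ t k * a k = a k * t k ∧ (s k * a k) ^ 4 = 1 := by
    intro k
    induction k with
    | zero => exact ⟨Or.inr hb, by simpa [t, a, seq] using c, by simpa [s, a, seq] using pow4_symm hbu⟩
    | succ k ih =>
      obtain ⟨h1, h2, h3⟩ := ih
      rw [(hst k).1, (hst k).2]
      have htriv : a (k + 1) = 1 → (a (k + 1) = 1 ∨ a (k + 1) ∈ D) ∧
          s k * a (k + 1) = a (k + 1) * s k ∧ (t k * a (k + 1)) ^ 4 = 1 := fun h =>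
        ⟨Or.inl h, by rw [h, mul_one, one_mul],
          by rw [h, mul_one, four_pow (t k), sq_one hD (htD k), one_mul]⟩
      rcases h1 with h1 | h1
      · exact htriv (by rw [hstep, h1, mul_one, pow_two, sq_one hD (hsD k)])
      obtain ⟨-, csa', caa', hsas, -, -⟩ := four_facts (sq_one hD (hsD k)) (sq_one hD h1) h3
      rw [← hstep] at csa' caa' hsas
      rcases sq_mem hD (hsD k) h1 h3 with h4 | h4
      · exact htriv h4
      rw [← hstep] at h4
      refine ⟨Or.inr h4, csa', ?_⟩
      by_contra h5
      exact ne_one hD h1 (commuting_odd hD (sq_one hD h1) h4 (htD k)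
        (hsas ▸ conj_self hD (hsD k) h1) caa' h2.symm (pow4_symm_ne h5))
  have ha2 : ∀ k, a k * a k = 1 := fun k => by
    rcases (inv1 k).1 with h | h
    · rw [h, one_mul]
    · exact sq_one hD h
  have hsas : ∀ k, s k * a k * s k = a k * a (k + 1) := fun k =>
    (four_facts (sq_one hD (hsD k)) (ha2 k) (inv1 k).2.2).2.2.2.1
  have htat : ∀ k, t k * a k * t k = a k := fun k => by
    rw [(inv1 k).2.1, mul_assoc, sq_one hD (htD k), mul_one]
  have inv2 : ∀ k, ∀ i ≤ k, Commute (a i) (a k) := by
    intro k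
    induction k with
    | zero =>
      intro i hi
      rw [Nat.le_zero.1 hi]
    | succ k ih =>
      have key : ∀ i ≤ k, Commute (s k) (a i) → Commute (a i) (a (k + 1)) := fun i hi h => by
        rw [hstep]
        exact (Commute.mul_right h.symm (ih i hi)).pow_right 2
      intro i hi
      rcases Nat.eq_or_lt_of_le hi with rfl | hi
      · exact Commute.refl _
      have hik : i ≤ k := Nat.lt_succ_iff.1 hi
      by_cases hpar : (Even i ↔ Even k)
      · rcases Nat.eq_or_lt_of_le hik with rfl | hik'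
        · exact (four_facts (sq_one hD (hsD i)) (ha2 i) (inv1 i).2.2).2.2.1
        have hsi : s i = s k := by simp only [s, hpar]
        have hi1 : Commute (a (i + 1)) (a (k + 1)) := by
          refine key (i + 1) hik' ?_
          rw [← hsi, ← (hst i).2]
          exact (inv1 (i + 1)).2.1
        have h1 : Commute (a i * a (i + 1)) (a k * a (k + 1)) := by
          have h0 := (ih i hik).map (MulAut.conj (s k))
          simp only [MulAut.conj_apply, inv_self hD (hsD k)] at h0
          rwa [hsas k, ← hsi, hsas i] at h0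
        have h2 : Commute (a i * a (i + 1)) (a k) :=
          Commute.mul_left (ih i hik) (ih (i + 1) hik')
        have h3 : Commute (a i * a (i + 1)) (a (k + 1)) := by
          have := h2.inv_right.mul_right h1
          rwa [inv_mul_cancel_left] at this
        have := h3.mul_left hi1.inv_left
        rwa [mul_inv_cancel_right] at this
      · refine key i hik ?_
        have : s k = t i := by
          by_cases hk : Even k <;> by_cases hi' : Even i <;> simp_all [s, t]
        rw [this]
        exact (inv1 i).2.1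
  have hcomm : ∀ i j, Commute (a i) (a j) := fun i j =>
    (le_total i j).elim (fun h => inv2 j i h) (fun h => (inv2 i j h).symm)
  set ρ := z * y with hρ
  have hzi := inv_self hD hz
  have hyi := inv_self hD hy
  obtain ⟨hodd, -⟩ := odd_of hD hz hy (pow4_symm_ne hau)
  rw [← hρ] at hodd
  set n := orderOf ρ with hn
  have hWc : ∀ v ∈ Subgroup.closure (Set.range a), ∀ w ∈ Subgroup.closure (Set.range a),
      Commute v w := by
    have h1 : Subgroup.closure (Set.range a) ≤ Subgroup.centralizer (Set.range a) := by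
      rw [Subgroup.closure_le]
      rintro _ ⟨i, rfl⟩ _ ⟨j, rfl⟩
      exact hcomm j i
    intro v hv w hw
    induction hw using Subgroup.closure_induction with
    | mem w hw => exact (h1 hv w hw).symm
    | one => exact Commute.one_right v
    | mul _ _ _ _ h2 h3 => exact h2.mul_right h3
    | inv _ _ h2 => exact h2.inv_right
  have hW2 : ∀ w ∈ Subgroup.closure (Set.range a), w * w = 1 := by
    intro w hw
    induction hw using Subgroup.closure_induction with
    | mem w hw => obtain ⟨i, rfl⟩ := hw; exact ha2 i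
    | one => exact one_mul 1
    | mul v w hv hw h2 h3 =>
      calc v * w * (v * w) = v * (w * v) * w := by group
        _ = v * (v * w) * w := by rw [(hWc w hw v hv).eq]
        _ = (v * v) * (w * w) := by group
        _ = 1 := by rw [h2, h3, one_mul]
    | inv v _ h2 => rw [← mul_inv_rev, h2, inv_one]
  -- the norm of an element of the abelian group
  have hnorm : ∀ k, ∀ v ∈ Subgroup.closure (Set.range a), ∀ w ∈ Subgroup.closure (Set.range a),
      ((v * w) * ρ) ^ k * (ρ ^ k)⁻¹ = ((v * ρ) ^ k * (ρ ^ k)⁻¹) * ((w * ρ) ^ k * (ρ ^ k)⁻¹) ∧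
      (v * ρ) ^ k * (ρ ^ k)⁻¹ ∈ Subgroup.closure (Set.range a) := by
    have hWs : ∀ g : G, (∀ i, g * a i * g⁻¹ ∈ Subgroup.closure (Set.range a)) →
        ∀ w ∈ Subgroup.closure (Set.range a), g * w * g⁻¹ ∈ Subgroup.closure (Set.range a) := by
      intro g h w hw
      induction hw using Subgroup.closure_induction with
      | mem w hw => obtain ⟨i, rfl⟩ := hw; exact h i
      | one => simp
      | mul v w _ _ h2 h3 => rw [← conj_mul]; exact mul_mem h2 h3
      | inv v _ h2 => rw [← conj_inv]; exact inv_mem h2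
    have hs' : ∀ g : G, (g = z ∨ g = y) → ∀ i, g * a i * g⁻¹ ∈ Subgroup.closure (Set.range a) := by
      intro g hg i
      have h1 : g = s i ∨ g = t i := by
        rcases hg with h | h <;> by_cases hi : Even i <;> simp [s, t, hi, h]
      rcases h1 with rfl | rfl
      · rw [inv_self hD (hsD i), hsas]
        exact mul_mem (Subgroup.subset_closure ⟨i, rfl⟩) (Subgroup.subset_closure ⟨i + 1, rfl⟩)
      · rw [inv_self hD (htD i), htat]
        exact Subgroup.subset_closure ⟨i, rfl⟩
    have hρW : ∀ w ∈ Subgroup.closure (Set.range a), ρ * w * ρ⁻¹ ∈ Subgroup.closure (Set.range a) := by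
      intro w hw
      have h1 := hWs z (hs' z (Or.inl rfl)) _ (hWs y (hs' y (Or.inr rfl)) w hw)
      rwa [show z * (y * w * y⁻¹) * z⁻¹ = ρ * w * ρ⁻¹ by rw [hρ]; group] at h1
    intro k v hv w hw
    induction k with
    | zero => simp
    | succ k ih =>
      obtain ⟨ih1, ih2⟩ := ih
      have hw2 : (w * ρ) ^ k * (ρ ^ k)⁻¹ ∈ Subgroup.closure (Set.range a) := by
        have h1 : (v * ρ) ^ k * (ρ ^ k)⁻¹ ∈ Subgroup.closure (Set.range a) := ih2
        clear ih1
        clear ih2 h1
        induction k with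
        | zero => simp
        | succ k ih =>
          have := mul_mem hw (hρW _ ih)
          rwa [show w * (ρ * ((w * ρ) ^ k * (ρ ^ k)⁻¹) * ρ⁻¹) = (w * ρ) ^ (k + 1) * (ρ ^ (k + 1))⁻¹ by
            rw [pow_succ' (w * ρ), pow_succ ρ]; group] at this
      have e : ∀ g : G, (g * ρ) ^ (k + 1) * (ρ ^ (k + 1))⁻¹ = g * (ρ * ((g * ρ) ^ k * (ρ ^ k)⁻¹) * ρ⁻¹) := by
        intro g
        rw [pow_succ' (g * ρ), pow_succ ρ]; group
      refine ⟨?_, by rw [e]; exact mul_mem hv (hρW _ ih2)⟩
      rw [e, e, e, ih1, ← conj_mul]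
      set P := ρ * ((v * ρ) ^ k * (ρ ^ k)⁻¹) * ρ⁻¹ with hP
      set R := ρ * ((w * ρ) ^ k * (ρ ^ k)⁻¹) * ρ⁻¹ with hR
      calc v * w * (P * R) = v * (w * P) * R := by group
        _ = v * (P * w) * R := by rw [(hWc w hw P (hρW _ ih2)).eq]
        _ = v * P * (w * R) := by group
  have hmul : ∀ v ∈ Subgroup.closure (Set.range a), ∀ w ∈ Subgroup.closure (Set.range a),
      (v * ρ) ^ n = 1 → (w * ρ) ^ n = 1 → ((v * w) * ρ) ^ n = 1 := by
    intro v hv w hw h1 h2
    have := (hnorm n v hv w hw).1
    rwa [show ρ ^ n = 1 from pow_orderOf_eq_one ρ, h1, h2, inv_one, mul_one, one_mul, mul_one] at this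
  have hflip : ∀ g : G, g * g = 1 → g * ρ * g = ρ⁻¹ → ∀ w : G, w * w = 1 → (w * ρ) ^ n = 1 →
      ((g * w * g) * ρ) ^ n = 1 := by
    intro g hg hgρ w hw h1
    have h2 : MulAut.conj (ρ * g) ((w * ρ)⁻¹) = (g * w * g) * ρ ∨
        MulAut.conj g ((w * ρ)⁻¹) = ρ * (g * w * g) := by
      right
      rw [MulAut.conj_apply, inv_eq_of_mul_eq_one_right hg, mul_inv_rev, inv_eq_of_mul_eq_one_right hw]
      calc g * (ρ⁻¹ * w) * g = (g * ρ⁻¹ * g) * (g * w * g) := by
            rw [show (g * ρ⁻¹ * g) * (g * w * g) = g * ρ⁻¹ * (g * g) * w * g by group, hg, mul_one]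
            group
        _ = ρ * (g * w * g) := by
            rw [show g * ρ⁻¹ * g = (g⁻¹ * ρ * g⁻¹)⁻¹ by group, inv_eq_of_mul_eq_one_right hg, hgρ, inv_inv]
    rcases h2 with h2 | h2
    · rw [← h2, ← map_pow, inv_pow, h1, inv_one, map_one]
    · have h3 : (g * w * g) * ρ = MulAut.conj ρ⁻¹ (ρ * (g * w * g)) := by
        rw [MulAut.conj_apply]; group
      rw [h3, ← h2, ← map_pow, ← map_pow, inv_pow, h1, inv_one, map_one, map_one]
  have haW : ∀ k, a k ∈ Subgroup.closure (Set.range a) := fun k => Subgroup.subset_closure ⟨k, rfl⟩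
  have hbn : (a 0 * ρ) ^ n = 1 := by
    obtain ⟨-, hm⟩ := hnorm n (a 0) (haW 0) 1 (one_mem _)
    rw [show ρ ^ n = 1 from pow_orderOf_eq_one ρ, inv_one, mul_one] at hm
    have h2n : (a 0 * ρ) ^ (2 * n) = 1 := by rw [mul_comm, pow_mul, pow_two, hW2 _ hm]
    set w := z * (y * b) with hwdef
    have hw : MulAut.conj (a 0) w = a 0 * ρ := by
      show b * (z * (y * b)) * b⁻¹ = b * (z * y)
      group
    have hw2 : w ^ (2 * n) = 1 := by
      apply (MulAut.conj (a 0)).injective
      rw [map_pow, hw, h2n, map_one]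
    have hw1 : w ^ n = 1 := by
      by_cases h4 : w ^ 4 = 1
      · exfalso
        obtain ⟨-, hm4⟩ := hnorm 4 (a 0) (haW 0) 1 (one_mem _)
        rw [← hw, ← map_pow, h4, map_one, one_mul] at hm4
        have h8 : ρ ^ 8 = 1 := by
          have := hW2 _ hm4
          rwa [← mul_inv_rev, inv_eq_one, ← pow_add] at this
        have hd : n ∣ 2 ^ 3 := orderOf_dvd_of_pow_eq_one (by simpa using h8)
        obtain ⟨j, -, hj⟩ := (Nat.dvd_prime_pow Nat.prime_two).1 hd
        rcases j with _ | j
        · apply pow4_symm_ne hau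
          rw [show z * y = 1 from orderOf_eq_one_iff.1 (hj.trans (pow_zero 2)), one_pow]
        · rw [hj] at hodd
          exact absurd hodd (by simp [Nat.not_odd_iff_even, Nat.even_pow])
      · obtain ⟨ho, -⟩ := odd_of hD hz hab h4
        exact orderOf_dvd_iff_pow_eq_one.1
          (((Nat.coprime_two_right.2 ho)).dvd_of_dvd_mul_left (orderOf_dvd_of_pow_eq_one hw2))
    rw [← hw, ← map_pow, hw1, map_one]
  have hρz : z * ρ * z = ρ⁻¹ := by
    rw [hρ, mul_inv_rev, hzi, hyi, ← mul_assoc z z, sq_one hD hz, one_mul]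
  have hρy : y * ρ * y = ρ⁻¹ := by
    rw [hρ, mul_inv_rev, hzi, hyi, mul_assoc, mul_assoc, sq_one hD hy, mul_one]
  have hall : ∀ k, (a k * ρ) ^ n = 1 := by
    intro k
    induction k with
    | zero => exact hbn
    | succ k ih =>
      have h1 : a (k + 1) = a k * (s k * a k * s k) := by rw [hsas, ← mul_assoc, ha2, one_mul]
      have h2 : s k * a k * s k ∈ Subgroup.closure (Set.range a) := by
        rw [hsas]; exact mul_mem (haW k) (haW _)
      rw [h1]
      refine hmul _ (haW k) _ h2 ih (hflip _ (sq_one hD (hsD k)) ?_ _ (ha2 k) ih)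
      by_cases hk : Even k
      · simp only [s, if_pos hk]; exact hρz
      · simp only [s, if_neg hk]; exact hρy
  have hdesc : ∀ i j, (Even i ↔ Even j) → a (i + 1) = a (j + 1) → a i = a j := by
    intro i j hij h
    have hsij : s i = s j := by simp only [s, hij]
    have htij : t i = t j := by simp only [t, hij]
    set d := a i * a j with hd
    have hds : Commute (s i) d := by
      have h1 : s i * d * s i = d := by
        calc s i * d * s i = (s i * a i * s i) * (s i * a j * s i) := by
              rw [hd, show (s i * a i * s i) * (s i * a j * s i) = s i * a i * (s i * s i) * a j * s i by group,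
                sq_one hD (hsD i), mul_one]; group
          _ = a i * a (j + 1) * (a j * a (j + 1)) := by rw [hsas, hsij, hsas, h]
          _ = a i * (a (j + 1) * a j) * a (j + 1) := by group
          _ = a i * a j * (a (j + 1) * a (j + 1)) := by rw [(hcomm (j + 1) j).eq]; group
          _ = d := by rw [ha2, mul_one]
      show s i * d = d * s i
      conv_rhs => rw [← h1, mul_assoc (s i * d), sq_one hD (hsD i), mul_one]
    have hdt : Commute (t i) d := Commute.mul_right (inv1 i).2.1 (htij ▸ (inv1 j).2.1)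
    have hdρ : Commute d ρ := by
      rw [hρ]
      by_cases hi : Even i
      · simp only [s, t, if_pos hi] at hds hdt
        exact hds.symm.mul_right hdt.symm
      · simp only [s, t, if_neg hi] at hds hdt
        exact hdt.symm.mul_right hds.symm
    have h1 := hmul _ (haW i) _ (haW j) (hall i) (hall j)
    rw [← hd, hdρ.mul_pow, show ρ ^ n = 1 from pow_orderOf_eq_one ρ, mul_one] at h1
    obtain ⟨m, hm⟩ := hodd
    rw [hm, pow_succ, pow_mul, pow_two, hW2 _ (mul_mem (haW i) (haW j)), one_pow, one_mul] at h1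
    rw [eq_inv_of_mul_eq_one_left h1, inv_eq_of_mul_eq_one_right (ha2 j)]
  obtain ⟨p, q, hpq, he⟩ := Finite.exists_ne_map_eq_of_infinite (fun k => a (2 * k))
  wlog hlt : p < q generalizing p q
  · exact this q p hpq.symm he.symm (lt_of_le_of_ne (not_lt.1 hlt) hpq.symm)
  have hback : ∀ i d, Even d → a i = a (i + d) → a 0 = a d := by
    intro i
    induction i with
    | zero => intro d _ h; simpa using h
    | succ i ih =>
      intro d hd h
      refine ih d hd (hdesc i (i + d) (by simp [Nat.even_add, hd]) ?_)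
      rwa [show i + d + 1 = i + 1 + d by ring]
  obtain ⟨d, rfl⟩ := Nat.exists_eq_add_of_lt hlt
  have h0 := hback (2 * p) (2 * (d + 1)) (even_two_mul _) (by rw [show 2 * p + 2 * (d + 1) = 2 * (p + d + 1) by ring]; exact he)
  rw [show 2 * (d + 1) = (2 * d + 1) + 1 by ring, hstep] at h0
  have hs1 : s (2 * d + 1) = y := by simp [s]
  rw [hs1] at h0
  refine ⟨a (2 * d + 1), (inv1 _).1.resolve_left fun h => ?_, h0.symm, (hcomm 0 _).eq⟩
  apply ne_one hD hb
  rw [show b = a 0 from rfl, h0, h, mul_one, pow_two, sq_one hD hy]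

end Cfsg.Agent.RootInv
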